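import Groth.Agent.Lib.AffCompl12.Embed
import Groth.Agent.Lib.CycP1.Graph
import Groth.Agent.S15544
import Groth.Agent.Lib.Chow.Projective
import Groth.Prelude.Def_PicLoc

/-!
# The complement of an affine open of a proper variety of dimension at least two is connected
-/

set_option autoImplicit false
set_option linter.all false
set_option backward.isDefEq.respectTransparency false

universe u

open CategoryTheory CategoryTheory.Limits AlgebraicGeometry TopologicalSpace Opposite

noncomputable section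

namespace GrothLib.AffCompl12

/-- The preimage of a connected closed set under a closed map with connected fibres over it is
connected. -/
theorem isConnected_preimage_of_fibres {A B : Type*} [TopologicalSpace A] [TopologicalSpace B] {p : A → B}
    (hc : Continuous p) (hcl : IsClosedMap p) {T : Set B} (hT : IsClosed T) (hTc : _root_.IsConnected T)
    (hf : ∀ b ∈ T, _root_.IsConnected (p ⁻¹' {b})) : _root_.IsConnected (p ⁻¹' T) := by
  refine ⟨?_, isPreconnected_closed_iff.2 fun s t hs ht hsub hs' ht' => ?_⟩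
  · obtain ⟨b, hb⟩ := hTc.nonempty
    obtain ⟨a, ha⟩ := (hf b hb).nonempty
    exact ⟨a, show p a ∈ T by rw [show p a = b from ha]; exact hb⟩
  · have hTA := hT.preimage hc
    obtain ⟨b, hb, ⟨a, ⟨-, has⟩, rfl⟩, a', ⟨-, hat⟩, ha'⟩ := isPreconnected_closed_iff.1 hTc.2
      (p '' (p ⁻¹' T ∩ s)) (p '' (p ⁻¹' T ∩ t)) (hcl _ (hTA.inter hs)) (hcl _ (hTA.inter ht))
      (fun b hb => by
        obtain ⟨a, ha⟩ := (hf b hb).nonempty
        have haT : a ∈ p ⁻¹' T := show p a ∈ T by rw [show p a = b from ha]; exact hb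
        exact (hsub haT).imp (fun h => ⟨a, ⟨haT, h⟩, ha⟩) fun h => ⟨a, ⟨haT, h⟩, ha⟩)
      (by obtain ⟨a, ha, ha'⟩ := hs'; exact ⟨p a, ha, a, ⟨ha, ha'⟩, rfl⟩)
      (by obtain ⟨a, ha, ha'⟩ := ht'; exact ⟨p a, ha, a, ⟨ha, ha'⟩, rfl⟩)
    have hsubT : p ⁻¹' {p a} ⊆ p ⁻¹' T := fun x hx => show p x ∈ T by rw [show p x = p a from hx]; exact hb
    obtain ⟨c, hc1, hc2⟩ := isPreconnected_closed_iff.1 (hf (p a) hb).2 s t hs ht (hsubT.trans hsub)
      ⟨a, rfl, has⟩ ⟨a', ha', hat⟩
    exact ⟨c, hsubT hc1, hc2⟩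

/-- A graph over a proper map into an open is closed over that open. -/
theorem mem_range_of_mem_closure {W P B : Scheme.{u}} (h : W ⟶ P) (a : P ⟶ B) [IsSeparated a]
    (O : B.Opens) (b : W ⟶ (O : Scheme.{u})) [IsProper b] (hb : h ≫ a = b ≫ O.ι) {x : P}
    (hx : x ∈ closure (Set.range h)) (hxO : a x ∈ O) : x ∈ Set.range h := by
  have hr : Set.range h ⊆ ((a ⁻¹ᵁ O : P.Opens) : Set P) := by
    rintro _ ⟨w, rfl⟩
    show a (h w) ∈ O
    rw [← Scheme.Hom.comp_apply, hb, Scheme.Hom.comp_apply]
    exact (b w).2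
  let h' : W ⟶ ((a ⁻¹ᵁ O : P.Opens) : Scheme.{u}) :=
    IsOpenImmersion.lift (a ⁻¹ᵁ O).ι h (by rwa [Scheme.Opens.range_ι])
  have hfac : h' ≫ (a ⁻¹ᵁ O).ι = h := IsOpenImmersion.lift_fac _ _ _
  have hcomp : h' ≫ (a ∣_ O) = b := by
    rw [← cancel_mono O.ι, Category.assoc, morphismRestrict_ι, ← Category.assoc, hfac, hb]
  haveI : IsProper (h' ≫ (a ∣_ O)) := by rw [hcomp]; infer_instance
  haveI : IsProper h' := IsProper.of_comp h' (a ∣_ O)
  let y : ((a ⁻¹ᵁ O : P.Opens) : Scheme.{u}) := ⟨x, hxO⟩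
  have himg : (a ⁻¹ᵁ O).ι '' Set.range h' = Set.range h := by
    rw [← Set.range_comp]
    conv_rhs => rw [← hfac]
    rfl
  have hy : y ∈ closure (Set.range h') := by
    rw [(a ⁻¹ᵁ O).ι.isOpenEmbedding.isEmbedding.closure_eq_preimage_closure_image, himg]
    exact hx
  rw [h'.isClosedMap.isClosed_range.closure_eq] at hy
  rw [← himg]
  exact ⟨y, hy, rfl⟩

variable (k : Type u) [Field k]

/-- The complement of a nonempty affine open of a proper variety of dimension at least two is
connected. -/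
theorem isConnected_compl_of_isIntegral {X : Scheme.{u}} (p : X ⟶ Spec (CommRingCat.of k)) [IsProper p]
    [IsIntegral X] (hdim : (2 : WithBot ℕ∞) ≤ topologicalKrullDim X) {U : X.Opens} (hU : IsAffineOpen U)
    (hne : (U : Set X).Nonempty) : _root_.IsConnected ((U : Set X)ᶜ) := by
  haveI : IsAffine (U : Scheme.{u}) := hU
  haveI : Nonempty U := hne.to_subtype
  haveI : IsIntegral (U : Scheme.{u}) := inferInstance
  obtain ⟨M, g, hgi, hgf, hgr⟩ := exists_immersion_chart (U.ι ≫ p)
  haveI := hgi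
  haveI : QuasiCompact g := by
    haveI : QuasiCompact (g ≫ CohB1.ProjSpace.toSpec M k) := by rw [hgf]; infer_instance
    exact QuasiCompact.of_comp g (CohB1.ProjSpace.toSpec M k)
  -- the projective closure of `U`
  let C : Scheme.{u} := g.image
  let ι : C ⟶ CohB1.ProjSpace M k := g.imageι
  let j : (U : Scheme.{u}) ⟶ C := g.toImage
  have hjι : j ≫ ι = g := g.toImage_imageι
  haveI : IsOpenImmersion j := inferInstanceAs (IsOpenImmersion g.toImage)
  haveI : IsIntegral C := CycP1.isIntegral_image g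
  let pC : C ⟶ Spec (CommRingCat.of k) := ι ≫ CohB1.ProjSpace.toSpec M k
  haveI := Chow.isProper_toSpec M k
  haveI : IsProper pC := inferInstance
  letI : C.Over (Spec (CommRingCat.of k)) := ⟨pC⟩
  haveI : IsProper (C ↘ Spec (CommRingCat.of k)) := inferInstanceAs (IsProper pC)
  obtain ⟨L₀, s₀, hL₀, hs₀⟩ := exists_ample_chart (k := k) M
  let L : C.Modules := (Scheme.Modules.pullback ι).obj L₀
  let e := (PicLoc.pullbackStructureIso ι).symm
  let s : Coh.structureModule C ⟶ L := e.hom ≫ (Scheme.Modules.pullback ι).map s₀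
  have hL : CohB1.IsAmple L := Ample.isAmple_pullback_of_isAffineHom (Y := C) ι hL₀
  have hloc : CohB1.genLocus L s = j.opensRange := by
    rw [show CohB1.genLocus L s = ι ⁻¹ᵁ CohB1.genLocus L₀ s₀ from Ample.genLocus_pullback ι L₀ hL₀.1 s₀ e, hs₀]
    refine Opens.ext (Set.ext fun x => ⟨fun hx => ?_, ?_⟩)
    · have hcl : ι x ∈ closure (Set.range g) := by
        have hd : x ∈ closure (Set.range j) := g.toImage.denseRange x
        refine closure_mono ?_ (image_closure_subset_closure_image ι.continuous ⟨x, hd, rfl⟩)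
        rintro _ ⟨_, ⟨u, rfl⟩, rfl⟩
        exact ⟨u, by rw [← hjι]; rfl⟩
      obtain ⟨u, hu⟩ := hgr.le ⟨hcl, hx⟩
      refine ⟨u, ι.isClosedEmbedding.injective ?_⟩
      rw [← hu, ← hjι]; rfl
    · rintro ⟨u, rfl⟩
      have h := (hgr.ge ⟨u, rfl⟩).2
      rw [← hjι] at h
      exact h
  -- its normalisation
  let ν := Curv2.normalizationι C
  have hN : ∀ V : C.affineOpens, CAlg.IsNagata Γ(C, (V : C.Opens)) := fun V => by
    obtain ⟨ψ, hψ, -⟩ := Dim.exists_finiteType_specMap pC V.2
    letI := ψ.hom.toAlgebra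
    haveI : Algebra.FiniteType k Γ(C, V.1) := hψ
    exact N2.isNagata_of_finiteType (R := k) NegTwist.isNagata_field _
  haveI := Euler.isNoetherian_of_proper (X := C) k
  haveI : IsFinite ν := NormFib.isFinite_of_nagata hN
  obtain ⟨V, hVne, hiso⟩ := NormFib.exists_isIso_of_finite (X := C) inferInstance
  obtain ⟨z, hz⟩ := hVne
  obtain ⟨y, hy⟩ : genericPoint C ∈ Set.range ν := by
    obtain ⟨y, hy⟩ := (ν ∣_ V).surjective ⟨_, (genericPoint_specializes z).mem_open V.2 hz⟩
    exact ⟨(ν ⁻¹ᵁ V).ι y, ((congrArg (fun g => g.base y) (morphismRestrict_ι ν V)).symm).trans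
      (congrArg V.ι hy)⟩
  have hgen : ν (genericPoint (Curv2.normalization C)) = genericPoint C :=
    ((genericPoint_specializes _).antisymm
      (((genericPoint_specializes y).map ν.continuous).trans (specializes_of_eq hy))).eq.symm
  have hsurj : Function.Surjective ν := by
    rw [← Set.range_eq_univ, Set.eq_univ_iff_forall]
    exact fun x => (genericPoint_specializes x).mem_closed ν.isClosedMap.isClosed_range ⟨_, hgen⟩
  let N := Curv2.normalization C
  let pN : N ⟶ Spec (CommRingCat.of k) := ν ≫ pC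
  haveI : IsProper pN := inferInstance
  letI : N.Over (Spec (CommRingCat.of k)) := ⟨pN⟩
  haveI : IsProper (N ↘ Spec (CommRingCat.of k)) := inferInstanceAs (IsProper pN)
  haveI := Euler.isNoetherian_of_proper (X := N) k
  have hη : ν (genericPoint N) ∈ CohB1.genLocus L s := by
    rw [hloc, hgen]
    exact ⟨genericPoint U, genericPoint_eq_of_isOpenImmersion j⟩
  have hdimC : (2 : WithBot ℕ∞) ≤ topologicalKrullDim C := by
    obtain ⟨n, hn, hnU⟩ := Dim.exists_nat_dim_open p
    refine hdim.trans (le_trans (le_of_eq ?_) j.isOpenEmbedding.isInducing.topologicalKrullDim_le)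
    rw [hn]; exact (hnU U inferInstance).symm
  have hT := NegTwist.isConnected_preimage_compl k NormFib.isNormalScheme_normalization
    (hdimC.trans (NegTwist.topologicalKrullDim_le_of_finite ν hsurj)) ν hL s hη
  -- the open part over `U`, with its map to `X`
  let W : N.Opens := ν ⁻¹ᵁ j.opensRange
  haveI : Nonempty W := ⟨⟨genericPoint N, by show ν _ ∈ j.opensRange; rwa [← hloc]⟩⟩
  let u : (W : Scheme.{u}) ⟶ U := (ν ∣_ j.opensRange) ≫ j.isoOpensRange.inv
  haveI : IsFinite (ν ∣_ j.opensRange) := IsZariskiLocalAtTarget.restrict ‹IsFinite ν› _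
  haveI : IsFinite u := inferInstance
  have hu : u ≫ j = W.ι ≫ ν := by
    simp only [u, Category.assoc, Scheme.Hom.isoOpensRange_inv_comp, morphismRestrict_ι]; rfl
  let q : (W : Scheme.{u}) ⟶ X := u ≫ U.ι
  have hq : W.ι ≫ pN = q ≫ p := by
    rw [show q ≫ p = u ≫ (U.ι ≫ p) from Category.assoc _ _ _, ← hgf, ← hjι]
    simp only [pN, pC, ← Category.assoc]
    rw [hu]
  let h : (W : Scheme.{u}) ⟶ pullback pN p := pullback.lift W.ι q hq
  have hfst : h ≫ pullback.fst pN p = W.ι := pullback.lift_fst _ _ _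
  have hsnd : h ≫ pullback.snd pN p = u ≫ U.ι := pullback.lift_snd _ _ _
  haveI : IsImmersion h := by
    haveI : IsImmersion (h ≫ pullback.fst pN p) := by rw [hfst]; infer_instance
    exact IsImmersion.of_comp h (pullback.fst pN p)
  haveI : QuasiCompact h := by
    haveI : QuasiCompact (h ≫ pullback.fst pN p) := by rw [hfst]; infer_instance
    exact QuasiCompact.of_comp h (pullback.fst pN p)
  let Γ' : Scheme.{u} := h.image
  let hI : (W : Scheme.{u}) ⟶ Γ' := h.toImage
  haveI : IsOpenImmersion hI := inferInstanceAs (IsOpenImmersion h.toImage)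
  haveI : IsIntegral Γ' := CycP1.isIntegral_image h
  let pp : Γ' ⟶ N := h.imageι ≫ pullback.fst pN p
  let qq : Γ' ⟶ X := h.imageι ≫ pullback.snd pN p
  have hIpp : hI ≫ pp = W.ι := by rw [← hfst]; exact h.toImage_imageι_assoc _
  have hIqq : hI ≫ qq = q := by rw [← show h ≫ pullback.snd pN p = q from hsnd]; exact h.toImage_imageι_assoc _
  have hcl : ∀ x : Γ', h.imageι x ∈ closure (Set.range h) := fun x => by
    have hd : x ∈ closure (Set.range hI) := h.toImage.denseRange x
    refine closure_mono ?_ (image_closure_subset_closure_image h.imageι.continuous ⟨x, hd, rfl⟩)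
    rintro _ ⟨_, ⟨w, rfl⟩, rfl⟩
    exact ⟨w, by rw [← Scheme.Hom.comp_apply, h.toImage_imageι]⟩
  have hback : ∀ x : Γ', h.imageι x ∈ Set.range h → pp x ∈ W := by
    rintro x ⟨w, hw⟩
    show pullback.fst pN p (h.imageι x) ∈ W
    rw [← hw, ← Scheme.Hom.comp_apply, hfst]
    exact w.2
  have hgW : hI (genericPoint W) = genericPoint Γ' := genericPoint_eq_of_isOpenImmersion hI
  have hppgen : pp (genericPoint Γ') = genericPoint N := by
    rw [← hgW, ← Scheme.Hom.comp_apply, hIpp]
    exact genericPoint_eq_of_isOpenImmersion W.ι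
  have hbir : IsIso (pp.stalkMap (genericPoint Γ')) := by
    rw [← hgW]
    have h1 : IsIso ((hI ≫ pp).stalkMap (genericPoint W)) := by rw [hIpp]; infer_instance
    rw [Scheme.Hom.stalkMap_comp] at h1
    exact @IsIso.of_isIso_comp_right _ _ _ _ _ _ _ inferInstance h1
  have hfib : ∀ b : N, _root_.IsConnected (pp ⁻¹' {b}) := fun b => by
    haveI := Groth.Agent.S15544.result (X := Γ') (Y := N) NormFib.isNormalScheme_normalization pp hppgen hbir b
    rw [← Scheme.Hom.range_fiberι]
    exact isConnected_range (pp.fiberι b).continuous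
  have hconn := isConnected_preimage_of_fibres pp.continuous pp.isClosedMap
    (isOpen_compl_iff.1 (by
      rw [← Set.preimage_compl, compl_compl]; exact ((CohB1.genLocus L s).2.preimage ν.continuous))) hT
    fun b _ => hfib b
  have himage : qq '' (pp ⁻¹' (ν ⁻¹' ((CohB1.genLocus L s : C.Opens) : Set C)ᶜ)) = (U : Set X)ᶜ := by
    rw [hloc]
    have hqs : Function.Surjective qq := by
      have hus : genericPoint U ∈ Set.range u := by
        obtain ⟨n, hn⟩ := hsurj (j (genericPoint U))
        refine ⟨⟨n, ⟨_, hn.symm⟩⟩, j.isOpenEmbedding.injective ?_⟩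
        rw [← Scheme.Hom.comp_apply, hu]
        exact hn
      obtain ⟨w, hw⟩ := hus
      have hgX : qq (hI w) = genericPoint X := by
        rw [← Scheme.Hom.comp_apply, hIqq, show q w = U.ι (u w) from rfl, hw]
        exact genericPoint_eq_of_isOpenImmersion U.ι
      exact fun x => (genericPoint_specializes x).mem_closed qq.isClosedMap.isClosed_range ⟨_, hgX⟩
    ext x
    constructor
    · rintro ⟨z, hz, rfl⟩ hzU
      exact hz (hback z (mem_range_of_mem_closure h (pullback.snd pN p) U u hsnd (hcl z) hzU))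
    · intro hx
      obtain ⟨z, rfl⟩ := hqs x
      refine ⟨z, fun hz => hx ?_, rfl⟩
      obtain ⟨w, hw⟩ := mem_range_of_mem_closure h (pullback.fst pN p) W (𝟙 _)
        (by rw [hfst, Category.id_comp]) (hcl z) hz
      show pullback.snd pN p (h.imageι z) ∈ U
      rw [← hw, ← Scheme.Hom.comp_apply, hsnd]
      exact (u w).2
  rw [← himage]
  exact hconn.image _ qq.continuous.continuousOn

end GrothLib.AffCompl12
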