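import Groth.Agent.Lib.NegTwist.ConnectedIntegral
import Groth.Agent.Lib.CMReg.ProjSpace
import Groth.Agent.Lib.Ample.RelAmple
import Groth.Agent.Lib.Ample.GenLocusPull
import Groth.Agent.Lib.GrTilde.Amp
import Groth.Agent.Lib.ProjPt.Basic
import Groth.Agent.Lib.ProjSp.Section

/-!
# Affine varieties as complements of hyperplane sections
-/

set_option autoImplicit false
set_option linter.all false
set_option backward.isDefEq.respectTransparency false

universe u

open CategoryTheory CategoryTheory.Limits AlgebraicGeometry TopologicalSpace Opposite HomogeneousLocalization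
open GrothLib.ProjPt

noncomputable section

namespace GrothLib.AffCompl12

variable {k : Type u} [Field k]

/-- The standard chart of projective space. -/
abbrev chart0 (N : ℕ) : (CohB1.ProjSpace N k).Opens :=
  Proj.basicOpen (CohB1.polyGrading N k) (ProjSp.x0 N k)

/-- An affine scheme of finite type over `k` immerses into projective space over `k` with image closed
in a standard chart. -/
theorem exists_immersion_chart {U : Scheme.{u}} [IsAffine U] (f : U ⟶ Spec (CommRingCat.of k))
    [LocallyOfFiniteType f] :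
    ∃ (N : ℕ) (g : U ⟶ CohB1.ProjSpace N k), IsImmersion g ∧ g ≫ CohB1.ProjSpace.toSpec N k = f ∧
      closure (Set.range g) ∩ ((chart0 (k := k) N : (CohB1.ProjSpace N k).Opens) : Set (CohB1.ProjSpace N k)) = Set.range g := by
  let φ : CommRingCat.of k ⟶ Γ(U, ⊤) := (Scheme.ΓSpecIso (CommRingCat.of k)).inv ≫ f.appTop
  have hφft : φ.hom.FiniteType := by
    have h := (HasRingHomProperty.iff_of_isAffine (P := @LocallyOfFiniteType)).1 ‹LocallyOfFiniteType f›
    exact h.comp (RingHom.FiniteType.of_surjective _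
      (ConcreteCategory.bijective_of_isIso (Scheme.ΓSpecIso (CommRingCat.of k)).inv).2)
  letI := φ.hom.toAlgebra
  haveI : Algebra.FiniteType k Γ(U, ⊤) := hφft
  obtain ⟨N, F, hF⟩ := (Algebra.FiniteType.iff_quotient_mvPolynomial'' (R := k) (S := Γ(U, ⊤))).1 inferInstance
  let ψ : MvPolynomial (Fin (N + 1)) k →+* Γ(U, ⊤) :=
    MvPolynomial.eval₂Hom φ.hom (Fin.cons 1 fun i => F (MvPolynomial.X i))
  have hψ0 : IsUnit (ψ (ProjSp.x0 N k)) := by simp [ψ]
  let e := evalAway (CohB1.polyGrading N k) ψ _ hψ0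
  have hb : e.comp (ProjSp.baseMap N k) = φ.hom := by
    refine RingHom.ext fun r => ?_
    show IsLocalization.Away.lift _ hψ0 (ProjSp.baseMap N k r).val = _
    rw [ProjSp.baseMap_val, IsLocalization.Away.lift_eq]
    simp [ψ]
  have hgen : ∀ i : Fin N, F (MvPolynomial.X i) ∈ e.range := by
    intro i
    have hmem : (MvPolynomial.X i.succ : MvPolynomial (Fin (N + 1)) k) ∈ CohB1.polyGrading N k (1 • 1) := by
      rw [one_smul]
      exact MvPolynomial.isHomogeneous_X k i.succ
    refine ⟨Away.mk (CohB1.polyGrading N k) (ProjSp.x0_mem N k) 1 _ hmem, ?_⟩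
    have h := evalAway_mk_spec (CohB1.polyGrading N k) ψ (ProjSp.x0_mem N k) hψ0 1 _ hmem
    simpa [e, ψ] using h
  have he : Function.Surjective e := by
    intro b
    obtain ⟨p, rfl⟩ := hF b
    show F p ∈ e.range
    induction p using MvPolynomial.induction_on with
    | C r => exact ⟨ProjSp.baseMap N k r, (RingHom.congr_fun hb r).trans (F.commutes r).symm⟩
    | add p q hp hq => rw [map_add]; exact add_mem hp hq
    | mul_X p i hp => rw [map_mul]; exact mul_mem hp (hgen i)
  let c : U ⟶ Spec (CommRingCat.of (Away (CohB1.polyGrading N k) (ProjSp.x0 N k))) :=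
    U.toSpecΓ ≫ Spec.map (CommRingCat.ofHom e)
  let ι0 : Spec (CommRingCat.of (Away (CohB1.polyGrading N k) (ProjSp.x0 N k))) ⟶ CohB1.ProjSpace N k :=
    Proj.awayι (CohB1.polyGrading N k) (ProjSp.x0 N k) (ProjSp.x0_mem N k) Nat.one_pos
  haveI : IsClosedImmersion (Spec.map (CommRingCat.ofHom e)) := IsClosedImmersion.spec_of_surjective _ he
  haveI : IsClosedImmersion c := inferInstance
  haveI : IsOpenImmersion ι0 := inferInstanceAs (IsOpenImmersion (Proj.awayι (CohB1.polyGrading N k) _ _ _))
  refine ⟨N, c ≫ ι0, inferInstance, ?_, ?_⟩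
  · have h1 : c ≫ ι0 ≫ CohB1.ProjSpace.toSpec N k = U.toSpecΓ ≫ Spec.map φ := by
      rw [show ι0 ≫ CohB1.ProjSpace.toSpec N k = _ from ProjSp.awayι_toSpec N k]
      show (U.toSpecΓ ≫ _) ≫ _ = _
      rw [Category.assoc, ← Spec.map_comp, ← CommRingCat.ofHom_comp, hb, CommRingCat.ofHom_hom]
    rw [Category.assoc]
    refine h1.trans ?_
    apply ext_to_Spec
    simp [φ]
  · have hr : Set.range (c ≫ ι0) = ι0 '' Set.range c := by
      rw [← Set.range_comp]; rfl
    have hchart : ((chart0 (k := k) N : (CohB1.ProjSpace N k).Opens) : Set (CohB1.ProjSpace N k)) = Set.range ι0 :=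
      congrArg SetLike.coe (Proj.opensRange_awayι (CohB1.polyGrading N k) (ProjSp.x0 N k)
        (ProjSp.x0_mem N k) Nat.one_pos).symm
    rw [hr, hchart]
    ext x
    constructor
    · rintro ⟨hx, y, rfl⟩
      refine ⟨y, ?_, rfl⟩
      rw [← c.isClosedEmbedding.isClosed_range.closure_eq, ι0.isOpenEmbedding.isEmbedding.closure_eq_preimage_closure_image]
      exact hx
    · rintro ⟨y, hy, rfl⟩
      exact ⟨subset_closure ⟨y, hy, rfl⟩, y, rfl⟩

/-- On projective space, `O(1)` is ample and has a section non-vanishing exactly on the chart. -/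
theorem exists_ample_chart (N : ℕ) :
    ∃ (L : (CohB1.ProjSpace N k).Modules) (s : Coh.structureModule (CohB1.ProjSpace N k) ⟶ L),
      CohB1.IsAmple L ∧ CohB1.genLocus L s = chart0 (k := k) N := by
  haveI : AlgebraicGeometry.IsNoetherian (CohB1.ProjSpace N k) := CMReg.isNoetherian_projSpace
  haveI : CompactSpace (Proj (CohB1.polyGrading N k)) := inferInstanceAs (CompactSpace (CohB1.ProjSpace N k))
  have hN := CMReg.exists_notMem (k := k) (n := N)
  obtain ⟨c, ⟨e⟩⟩ := Ample.exists_cocycle (GrTilde.isInvertible_twist_of_cover (N := 1) hN)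
  refine ⟨_, c.hom (show c.sect 1 ⊤ from e.hom.app ⊤ (Ample.ProjTwist.gsec (CohB1.polyGrading N k) _
    (ProjSp.x0_mem N k))) ≫ e.inv, GrTilde.isAmple_twist_of_cover one_pos hN, ?_⟩
  rw [← Ample.genLocus_comp_iso e, Category.assoc, Iso.inv_hom_id, Category.comp_id, c.genLocus_hom]
  exact GrTilde.locus_eq_basicOpen hN c e (ProjSp.x0_mem N k)

end GrothLib.AffCompl12
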